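import Mathlib
import Cfsg.Agent.Lib.Helper56.TC
import Cfsg.Agent.Lib.Helper56.Fi24V10.C0
import Cfsg.Agent.Lib.Helper56.Fi24V10.C1
import Cfsg.Agent.Lib.Helper56.Fi24V10.C2
import Cfsg.Agent.Lib.Helper56.Fi24V10.C3
import Cfsg.Agent.Lib.Helper56.Fi24V10.C4
import Cfsg.Agent.Lib.Helper56.Fi24V10.C5
import Cfsg.Agent.Lib.Helper56.Fi24V10.C6
import Cfsg.Agent.Lib.Helper56.Fi24V10.C7
import Cfsg.Agent.Lib.Helper56.Fi24V10.C8
import Cfsg.Agent.Lib.Helper56.Fi24V10.C9
import Cfsg.Agent.Lib.Helper56.Fi24V10.C10
import Cfsg.Agent.Lib.Helper56.Fi24V10.C11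
import Cfsg.Agent.Lib.Helper56.Fi24V10.C12
import Cfsg.Agent.Lib.Helper56.Fi24V10.C13
import Cfsg.Agent.Lib.Helper56.Fi24V10.C14
import Cfsg.Agent.Lib.Helper56.Fi24V10.C15
import Cfsg.Agent.Lib.Helper56.Fi24V10.C16
import Cfsg.Agent.Lib.Helper56.Fi24V10.C17
import Cfsg.Agent.Lib.Helper56.Fi24V10.C18
import Cfsg.Agent.Lib.Helper56.Fi24V10.C19
import Cfsg.Agent.Lib.Helper56.Fi24V10.C20
import Cfsg.Agent.Lib.Helper56.Fi24V10.C21
import Cfsg.Agent.Lib.Helper56.Fi24V10.C22
import Cfsg.Agent.Lib.Helper56.Fi24V10.C23
import Cfsg.Agent.Lib.Helper56.Fi24V10.C24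
import Cfsg.Agent.Lib.Helper56.Fi24V10.C25
import Cfsg.Agent.Lib.Helper56.Fi24V10.C26
import Cfsg.Agent.Lib.Helper56.Fi24V10.C27
import Cfsg.Agent.Lib.Helper56.Fi24V10.C28
set_option autoImplicit false
set_option maxRecDepth 1000000

namespace Cfsg.Agent.Lib.Helper56.Fi24V10

open Cfsg.Agent.Lib.Helper56.TC Cfsg.Agent.Lib.Helper56.TC.Tabs

theorem uN_407 : Upto T.chkName 407 := upto_add (upto_zero T.chkName) rfl cN_0
theorem uN_817 : Upto T.chkName 817 := upto_add uN_407 rfl cN_407
theorem uN_1229 : Upto T.chkName 1229 := upto_add uN_817 rfl cN_817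
theorem uN_1641 : Upto T.chkName 1641 := upto_add uN_1229 rfl cN_1229
theorem uN_2052 : Upto T.chkName 2052 := upto_add uN_1641 rfl cN_1641
theorem uN_2464 : Upto T.chkName 2464 := upto_add uN_2052 rfl cN_2052
theorem uN_2876 : Upto T.chkName 2876 := upto_add uN_2464 rfl cN_2464
theorem uN_3289 : Upto T.chkName 3289 := upto_add uN_2876 rfl cN_2876
theorem uN_3704 : Upto T.chkName 3704 := upto_add uN_3289 rfl cN_3289
theorem uN_4118 : Upto T.chkName 4118 := upto_add uN_3704 rfl cN_3704
theorem uN_4531 : Upto T.chkName 4531 := upto_add uN_4118 rfl cN_4118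
theorem uN_4947 : Upto T.chkName 4947 := upto_add uN_4531 rfl cN_4531
theorem uN_5362 : Upto T.chkName 5362 := upto_add uN_4947 rfl cN_4947
theorem uN_5779 : Upto T.chkName 5779 := upto_add uN_5362 rfl cN_5362
theorem uN_6196 : Upto T.chkName 6196 := upto_add uN_5779 rfl cN_5779
theorem uN_6610 : Upto T.chkName 6610 := upto_add uN_6196 rfl cN_6196
theorem uN_7029 : Upto T.chkName 7029 := upto_add uN_6610 rfl cN_6610
theorem uN_7447 : Upto T.chkName 7447 := upto_add uN_7029 rfl cN_7029
theorem uN_7863 : Upto T.chkName 7863 := upto_add uN_7447 rfl cN_7447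
theorem uN_8281 : Upto T.chkName 8281 := upto_add uN_7863 rfl cN_7863
theorem uN_8699 : Upto T.chkName 8699 := upto_add uN_8281 rfl cN_8281
theorem uN_9119 : Upto T.chkName 9119 := upto_add uN_8699 rfl cN_8699
theorem uN_9535 : Upto T.chkName 9535 := upto_add uN_9119 rfl cN_9119
theorem uN_9955 : Upto T.chkName 9955 := upto_add uN_9535 rfl cN_9535
theorem uN_10376 : Upto T.chkName 10376 := upto_add uN_9955 rfl cN_9955
theorem uN_10795 : Upto T.chkName 10795 := upto_add uN_10376 rfl cN_10376
theorem uN_11213 : Upto T.chkName 11213 := upto_add uN_10795 rfl cN_10795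
theorem uN_11629 : Upto T.chkName 11629 := upto_add uN_11213 rfl cN_11213
theorem uN_12053 : Upto T.chkName 12053 := upto_add uN_11629 rfl cN_11629
theorem uN_12471 : Upto T.chkName 12471 := upto_add uN_12053 rfl cN_12053
theorem uN_12890 : Upto T.chkName 12890 := upto_add uN_12471 rfl cN_12471
theorem uN_13310 : Upto T.chkName 13310 := upto_add uN_12890 rfl cN_12890
theorem uN_13728 : Upto T.chkName 13728 := upto_add uN_13310 rfl cN_13310
theorem uN_14153 : Upto T.chkName 14153 := upto_add uN_13728 rfl cN_13728
theorem uN_14575 : Upto T.chkName 14575 := upto_add uN_14153 rfl cN_14153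
theorem uN_14996 : Upto T.chkName 14996 := upto_add uN_14575 rfl cN_14575
theorem uN_15418 : Upto T.chkName 15418 := upto_add uN_14996 rfl cN_14996
theorem uN_15838 : Upto T.chkName 15838 := upto_add uN_15418 rfl cN_15418
theorem uN_16263 : Upto T.chkName 16263 := upto_add uN_15838 rfl cN_15838
theorem uN_16687 : Upto T.chkName 16687 := upto_add uN_16263 rfl cN_16263
theorem uN_17109 : Upto T.chkName 17109 := upto_add uN_16687 rfl cN_16687
theorem uN_17534 : Upto T.chkName 17534 := upto_add uN_17109 rfl cN_17109
theorem uN_17955 : Upto T.chkName 17955 := upto_add uN_17534 rfl cN_17534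
theorem uN_18383 : Upto T.chkName 18383 := upto_add uN_17955 rfl cN_17955
theorem uN_18810 : Upto T.chkName 18810 := upto_add uN_18383 rfl cN_18383
theorem uN_19234 : Upto T.chkName 19234 := upto_add uN_18810 rfl cN_18810
theorem uN_19658 : Upto T.chkName 19658 := upto_add uN_19234 rfl cN_19234
theorem uN_20080 : Upto T.chkName 20080 := upto_add uN_19658 rfl cN_19658
theorem uN_20514 : Upto T.chkName 20514 := upto_add uN_20080 rfl cN_20080
theorem uN_20941 : Upto T.chkName 20941 := upto_add uN_20514 rfl cN_20514
theorem uN_21364 : Upto T.chkName 21364 := upto_add uN_20941 rfl cN_20941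
theorem uN_21786 : Upto T.chkName 21786 := upto_add uN_21364 rfl cN_21364
theorem uN_22218 : Upto T.chkName 22218 := upto_add uN_21786 rfl cN_21786
theorem uN_22644 : Upto T.chkName 22644 := upto_add uN_22218 rfl cN_22218
theorem uN_23068 : Upto T.chkName 23068 := upto_add uN_22644 rfl cN_22644
theorem uN_23499 : Upto T.chkName 23499 := upto_add uN_23068 rfl cN_23068
theorem uN_23926 : Upto T.chkName 23926 := upto_add uN_23499 rfl cN_23499
theorem uN_24349 : Upto T.chkName 24349 := upto_add uN_23926 rfl cN_23926
theorem uN_24781 : Upto T.chkName 24781 := upto_add uN_24349 rfl cN_24349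
theorem uN_25208 : Upto T.chkName 25208 := upto_add uN_24781 rfl cN_24781
theorem uN_25633 : Upto T.chkName 25633 := upto_add uN_25208 rfl cN_25208
theorem uN_26068 : Upto T.chkName 26068 := upto_add uN_25633 rfl cN_25633
theorem uN_26494 : Upto T.chkName 26494 := upto_add uN_26068 rfl cN_26068
theorem uN_26924 : Upto T.chkName 26924 := upto_add uN_26494 rfl cN_26494
theorem uN_27356 : Upto T.chkName 27356 := upto_add uN_26924 rfl cN_26924
theorem uN_27782 : Upto T.chkName 27782 := upto_add uN_27356 rfl cN_27356
theorem uN_28216 : Upto T.chkName 28216 := upto_add uN_27782 rfl cN_27782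
theorem uN_28648 : Upto T.chkName 28648 := upto_add uN_28216 rfl cN_28216
theorem uN_29077 : Upto T.chkName 29077 := upto_add uN_28648 rfl cN_28648
theorem uN_29511 : Upto T.chkName 29511 := upto_add uN_29077 rfl cN_29077
theorem uN_29940 : Upto T.chkName 29940 := upto_add uN_29511 rfl cN_29511
theorem uN_30360 : Upto T.chkName 30360 := upto_add uN_29940 rfl cN_29940
theorem uN_30785 : Upto T.chkName 30785 := upto_add uN_30360 rfl cN_30360
theorem uN_31208 : Upto T.chkName 31208 := upto_add uN_30785 rfl cN_30785
theorem uN_31627 : Upto T.chkName 31627 := upto_add uN_31208 rfl cN_31208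
theorem uN_32127 : Upto T.chkName 32127 := upto_add uN_31627 rfl cN_31627
theorem uN_32641 : Upto T.chkName 32641 := upto_add uN_32127 rfl cN_32127
theorem uN_33171 : Upto T.chkName 33171 := upto_add uN_32641 rfl cN_32641
theorem uN_33694 : Upto T.chkName 33694 := upto_add uN_33171 rfl cN_33171
theorem uN_34229 : Upto T.chkName 34229 := upto_add uN_33694 rfl cN_33694
theorem uN_34745 : Upto T.chkName 34745 := upto_add uN_34229 rfl cN_34229
theorem uN_35282 : Upto T.chkName 35282 := upto_add uN_34745 rfl cN_34745
theorem uN_35812 : Upto T.chkName 35812 := upto_add uN_35282 rfl cN_35282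
theorem uN_36342 : Upto T.chkName 36342 := upto_add uN_35812 rfl cN_35812
theorem uN_36879 : Upto T.chkName 36879 := upto_add uN_36342 rfl cN_36342
theorem uN_37420 : Upto T.chkName 37420 := upto_add uN_36879 rfl cN_36879
theorem uN_37939 : Upto T.chkName 37939 := upto_add uN_37420 rfl cN_37420
theorem uN_38469 : Upto T.chkName 38469 := upto_add uN_37939 rfl cN_37939
theorem uN_39005 : Upto T.chkName 39005 := upto_add uN_38469 rfl cN_38469
theorem uN_39554 : Upto T.chkName 39554 := upto_add uN_39005 rfl cN_39005
theorem uN_40082 : Upto T.chkName 40082 := upto_add uN_39554 rfl cN_39554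
theorem uN_40597 : Upto T.chkName 40597 := upto_add uN_40082 rfl cN_40082
theorem uN_41131 : Upto T.chkName 41131 := upto_add uN_40597 rfl cN_40597
theorem uN_41664 : Upto T.chkName 41664 := upto_add uN_41131 rfl cN_41131
theorem uN_42211 : Upto T.chkName 42211 := upto_add uN_41664 rfl cN_41664
theorem uN_42747 : Upto T.chkName 42747 := upto_add uN_42211 rfl cN_42211
theorem uN_43275 : Upto T.chkName 43275 := upto_add uN_42747 rfl cN_42747
theorem uN_43793 : Upto T.chkName 43793 := upto_add uN_43275 rfl cN_43275
theorem uN_44319 : Upto T.chkName 44319 := upto_add uN_43793 rfl cN_43793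
theorem uN_44851 : Upto T.chkName 44851 := upto_add uN_44319 rfl cN_44319
theorem uN_45392 : Upto T.chkName 45392 := upto_add uN_44851 rfl cN_44851
theorem uN_45933 : Upto T.chkName 45933 := upto_add uN_45392 rfl cN_45392
theorem uN_46483 : Upto T.chkName 46483 := upto_add uN_45933 rfl cN_45933
theorem uN_47009 : Upto T.chkName 47009 := upto_add uN_46483 rfl cN_46483
theorem uN_47545 : Upto T.chkName 47545 := upto_add uN_47009 rfl cN_47009
theorem uN_48061 : Upto T.chkName 48061 := upto_add uN_47545 rfl cN_47545
theorem uN_48588 : Upto T.chkName 48588 := upto_add uN_48061 rfl cN_48061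
theorem uN_49107 : Upto T.chkName 49107 := upto_add uN_48588 rfl cN_48588
theorem uN_49648 : Upto T.chkName 49648 := upto_add uN_49107 rfl cN_49107
theorem uN_50187 : Upto T.chkName 50187 := upto_add uN_49648 rfl cN_49648
theorem uN_50729 : Upto T.chkName 50729 := upto_add uN_50187 rfl cN_50187
theorem uN_51281 : Upto T.chkName 51281 := upto_add uN_50729 rfl cN_50729
theorem uN_51816 : Upto T.chkName 51816 := upto_add uN_51281 rfl cN_51281
theorem uN_52349 : Upto T.chkName 52349 := upto_add uN_51816 rfl cN_51816
theorem uN_52878 : Upto T.chkName 52878 := upto_add uN_52349 rfl cN_52349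
theorem uN_53418 : Upto T.chkName 53418 := upto_add uN_52878 rfl cN_52878
theorem uN_53935 : Upto T.chkName 53935 := upto_add uN_53418 rfl cN_53418
theorem uN_54468 : Upto T.chkName 54468 := upto_add uN_53935 rfl cN_53935
theorem uN_54994 : Upto T.chkName 54994 := upto_add uN_54468 rfl cN_54468
theorem uN_55521 : Upto T.chkName 55521 := upto_add uN_54994 rfl cN_54994
theorem uN_56062 : Upto T.chkName 56062 := upto_add uN_55521 rfl cN_55521
theorem uN_56602 : Upto T.chkName 56602 := upto_add uN_56062 rfl cN_56062
theorem uN_57147 : Upto T.chkName 57147 := upto_add uN_56602 rfl cN_56602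
theorem uN_57696 : Upto T.chkName 57696 := upto_add uN_57147 rfl cN_57147
theorem uN_58234 : Upto T.chkName 58234 := upto_add uN_57696 rfl cN_57696
theorem uN_58769 : Upto T.chkName 58769 := upto_add uN_58234 rfl cN_58234
theorem uN_59301 : Upto T.chkName 59301 := upto_add uN_58769 rfl cN_58769
theorem uN_59830 : Upto T.chkName 59830 := upto_add uN_59301 rfl cN_59301
theorem uN_60366 : Upto T.chkName 60366 := upto_add uN_59830 rfl cN_59830
theorem uN_60886 : Upto T.chkName 60886 := upto_add uN_60366 rfl cN_60366
theorem uN_61415 : Upto T.chkName 61415 := upto_add uN_60886 rfl cN_60886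
theorem uN_61947 : Upto T.chkName 61947 := upto_add uN_61415 rfl cN_61415
theorem uN_62467 : Upto T.chkName 62467 := upto_add uN_61947 rfl cN_61947
theorem uN_62989 : Upto T.chkName 62989 := upto_add uN_62467 rfl cN_62467
theorem uN_63525 : Upto T.chkName 63525 := upto_add uN_62989 rfl cN_62989
theorem uN_64071 : Upto T.chkName 64071 := upto_add uN_63525 rfl cN_63525
theorem uN_64616 : Upto T.chkName 64616 := upto_add uN_64071 rfl cN_64071
theorem uN_65166 : Upto T.chkName 65166 := upto_add uN_64616 rfl cN_64616
theorem uN_65698 : Upto T.chkName 65698 := upto_add uN_65166 rfl cN_65166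
theorem uN_66230 : Upto T.chkName 66230 := upto_add uN_65698 rfl cN_65698
theorem uN_66765 : Upto T.chkName 66765 := upto_add uN_66230 rfl cN_66230
theorem uN_67291 : Upto T.chkName 67291 := upto_add uN_66765 rfl cN_66765
theorem uN_67818 : Upto T.chkName 67818 := upto_add uN_67291 rfl cN_67291
theorem uN_68354 : Upto T.chkName 68354 := upto_add uN_67818 rfl cN_67818
theorem uN_68876 : Upto T.chkName 68876 := upto_add uN_68354 rfl cN_68354
theorem uN_69405 : Upto T.chkName 69405 := upto_add uN_68876 rfl cN_68876
theorem uN_69941 : Upto T.chkName 69941 := upto_add uN_69405 rfl cN_69405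
theorem uN_70467 : Upto T.chkName 70467 := upto_add uN_69941 rfl cN_69941
theorem uN_70994 : Upto T.chkName 70994 := upto_add uN_70467 rfl cN_70467
theorem uN_71525 : Upto T.chkName 71525 := upto_add uN_70994 rfl cN_70994
theorem uN_72067 : Upto T.chkName 72067 := upto_add uN_71525 rfl cN_71525
theorem uN_72616 : Upto T.chkName 72616 := upto_add uN_72067 rfl cN_72067
theorem uN_73158 : Upto T.chkName 73158 := upto_add uN_72616 rfl cN_72616
theorem uN_73701 : Upto T.chkName 73701 := upto_add uN_73158 rfl cN_73158
theorem uN_74235 : Upto T.chkName 74235 := upto_add uN_73701 rfl cN_73701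
theorem uN_74771 : Upto T.chkName 74771 := upto_add uN_74235 rfl cN_74235
theorem uN_75309 : Upto T.chkName 75309 := upto_add uN_74771 rfl cN_74771
theorem uN_75836 : Upto T.chkName 75836 := upto_add uN_75309 rfl cN_75309
theorem uN_76367 : Upto T.chkName 76367 := upto_add uN_75836 rfl cN_75836
theorem uN_76903 : Upto T.chkName 76903 := upto_add uN_76367 rfl cN_76367
theorem uN_77436 : Upto T.chkName 77436 := upto_add uN_76903 rfl cN_76903
theorem uN_77962 : Upto T.chkName 77962 := upto_add uN_77436 rfl cN_77436
theorem uN_78495 : Upto T.chkName 78495 := upto_add uN_77962 rfl cN_77962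
theorem uN_79034 : Upto T.chkName 79034 := upto_add uN_78495 rfl cN_78495
theorem uN_79565 : Upto T.chkName 79565 := upto_add uN_79034 rfl cN_79034
theorem uN_80101 : Upto T.chkName 80101 := upto_add uN_79565 rfl cN_79565
theorem uN_80633 : Upto T.chkName 80633 := upto_add uN_80101 rfl cN_80101
theorem uN_81175 : Upto T.chkName 81175 := upto_add uN_80633 rfl cN_80633
theorem uN_81729 : Upto T.chkName 81729 := upto_add uN_81175 rfl cN_81175
theorem uN_82272 : Upto T.chkName 82272 := upto_add uN_81729 rfl cN_81729
theorem uN_82814 : Upto T.chkName 82814 := upto_add uN_82272 rfl cN_82272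
theorem uN_83348 : Upto T.chkName 83348 := upto_add uN_82814 rfl cN_82814
theorem uN_83887 : Upto T.chkName 83887 := upto_add uN_83348 rfl cN_83348
theorem uN_84433 : Upto T.chkName 84433 := upto_add uN_83887 rfl cN_83887
theorem uN_84968 : Upto T.chkName 84968 := upto_add uN_84433 rfl cN_84433
theorem uN_85503 : Upto T.chkName 85503 := upto_add uN_84968 rfl cN_84968
theorem uN_86039 : Upto T.chkName 86039 := upto_add uN_85503 rfl cN_85503
theorem uN_86580 : Upto T.chkName 86580 := upto_add uN_86039 rfl cN_86039
theorem uN_87124 : Upto T.chkName 87124 := upto_add uN_86580 rfl cN_86580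
theorem uN_87652 : Upto T.chkName 87652 := upto_add uN_87124 rfl cN_87124
theorem uN_88190 : Upto T.chkName 88190 := upto_add uN_87652 rfl cN_87652
theorem uN_88731 : Upto T.chkName 88731 := upto_add uN_88190 rfl cN_88190
theorem uN_89269 : Upto T.chkName 89269 := upto_add uN_88731 rfl cN_88731
theorem uN_89814 : Upto T.chkName 89814 := upto_add uN_89269 rfl cN_89269
theorem uN_90352 : Upto T.chkName 90352 := upto_add uN_89814 rfl cN_89814
theorem uN_90900 : Upto T.chkName 90900 := upto_add uN_90352 rfl cN_90352
theorem uN_91452 : Upto T.chkName 91452 := upto_add uN_90900 rfl cN_90900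
theorem uN_91997 : Upto T.chkName 91997 := upto_add uN_91452 rfl cN_91452
theorem uN_92545 : Upto T.chkName 92545 := upto_add uN_91997 rfl cN_91997
theorem uN_93084 : Upto T.chkName 93084 := upto_add uN_92545 rfl cN_92545
theorem uN_93628 : Upto T.chkName 93628 := upto_add uN_93084 rfl cN_93084
theorem uN_94176 : Upto T.chkName 94176 := upto_add uN_93628 rfl cN_93628
theorem uN_94720 : Upto T.chkName 94720 := upto_add uN_94176 rfl cN_94176
theorem uN_95258 : Upto T.chkName 95258 := upto_add uN_94720 rfl cN_94720
theorem uN_95804 : Upto T.chkName 95804 := upto_add uN_95258 rfl cN_95258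
theorem uN_96347 : Upto T.chkName 96347 := upto_add uN_95804 rfl cN_95804
theorem uN_96898 : Upto T.chkName 96898 := upto_add uN_96347 rfl cN_96347
theorem uN_97432 : Upto T.chkName 97432 := upto_add uN_96898 rfl cN_96898
theorem uN_97972 : Upto T.chkName 97972 := upto_add uN_97432 rfl cN_97432
theorem uN_98515 : Upto T.chkName 98515 := upto_add uN_97972 rfl cN_97972
theorem uN_99054 : Upto T.chkName 99054 := upto_add uN_98515 rfl cN_98515
theorem uN_99596 : Upto T.chkName 99596 := upto_add uN_99054 rfl cN_99054
theorem uN_100132 : Upto T.chkName 100132 := upto_add uN_99596 rfl cN_99596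
theorem uN_100682 : Upto T.chkName 100682 := upto_add uN_100132 rfl cN_100132
theorem uN_101238 : Upto T.chkName 101238 := upto_add uN_100682 rfl cN_100682
theorem uN_101783 : Upto T.chkName 101783 := upto_add uN_101238 rfl cN_101238
theorem uN_102330 : Upto T.chkName 102330 := upto_add uN_101783 rfl cN_101783
theorem uN_102875 : Upto T.chkName 102875 := upto_add uN_102330 rfl cN_102330
theorem uN_103422 : Upto T.chkName 103422 := upto_add uN_102875 rfl cN_102875
theorem uN_103975 : Upto T.chkName 103975 := upto_add uN_103422 rfl cN_103422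
theorem uN_104517 : Upto T.chkName 104517 := upto_add uN_103975 rfl cN_103975
theorem uN_105063 : Upto T.chkName 105063 := upto_add uN_104517 rfl cN_104517
theorem uN_105608 : Upto T.chkName 105608 := upto_add uN_105063 rfl cN_105063
theorem uN_106160 : Upto T.chkName 106160 := upto_add uN_105608 rfl cN_105608
theorem uN_106703 : Upto T.chkName 106703 := upto_add uN_106160 rfl cN_106160
theorem uN_107242 : Upto T.chkName 107242 := upto_add uN_106703 rfl cN_106703
theorem uN_107779 : Upto T.chkName 107779 := upto_add uN_107242 rfl cN_107242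
theorem uN_108322 : Upto T.chkName 108322 := upto_add uN_107779 rfl cN_107779
theorem uN_108862 : Upto T.chkName 108862 := upto_add uN_108322 rfl cN_108322
theorem uN_109395 : Upto T.chkName 109395 := upto_add uN_108862 rfl cN_108862
theorem uN_109949 : Upto T.chkName 109949 := upto_add uN_109395 rfl cN_109395
theorem uN_110499 : Upto T.chkName 110499 := upto_add uN_109949 rfl cN_109949
theorem uN_111042 : Upto T.chkName 111042 := upto_add uN_110499 rfl cN_110499
theorem uN_111587 : Upto T.chkName 111587 := upto_add uN_111042 rfl cN_111042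
theorem uN_112136 : Upto T.chkName 112136 := upto_add uN_111587 rfl cN_111587
theorem uN_112688 : Upto T.chkName 112688 := upto_add uN_112136 rfl cN_112136
theorem uN_113234 : Upto T.chkName 113234 := upto_add uN_112688 rfl cN_112688
theorem uN_113777 : Upto T.chkName 113777 := upto_add uN_113234 rfl cN_113234
theorem uN_114318 : Upto T.chkName 114318 := upto_add uN_113777 rfl cN_113777
theorem uN_114868 : Upto T.chkName 114868 := upto_add uN_114318 rfl cN_114318
theorem uN_115415 : Upto T.chkName 115415 := upto_add uN_114868 rfl cN_114868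
theorem uN_115958 : Upto T.chkName 115958 := upto_add uN_115415 rfl cN_115415
theorem uN_116494 : Upto T.chkName 116494 := upto_add uN_115958 rfl cN_115958
theorem uN_117038 : Upto T.chkName 117038 := upto_add uN_116494 rfl cN_116494
theorem uN_117578 : Upto T.chkName 117578 := upto_add uN_117038 rfl cN_117038
theorem uN_118112 : Upto T.chkName 118112 := upto_add uN_117578 rfl cN_117578
theorem uN_118666 : Upto T.chkName 118666 := upto_add uN_118112 rfl cN_118112
theorem uN_119212 : Upto T.chkName 119212 := upto_add uN_118666 rfl cN_118666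
theorem uN_119766 : Upto T.chkName 119766 := upto_add uN_119212 rfl cN_119212
theorem uN_120315 : Upto T.chkName 120315 := upto_add uN_119766 rfl cN_119766
theorem uN_120864 : Upto T.chkName 120864 := upto_add uN_120315 rfl cN_120315
theorem uN_121414 : Upto T.chkName 121414 := upto_add uN_120864 rfl cN_120864
theorem uN_121958 : Upto T.chkName 121958 := upto_add uN_121414 rfl cN_121414
theorem uN_122500 : Upto T.chkName 122500 := upto_add uN_121958 rfl cN_121958
theorem uN_123047 : Upto T.chkName 123047 := upto_add uN_122500 rfl cN_122500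
theorem uN_123598 : Upto T.chkName 123598 := upto_add uN_123047 rfl cN_123047
theorem uN_124148 : Upto T.chkName 124148 := upto_add uN_123598 rfl cN_123598
theorem uN_124692 : Upto T.chkName 124692 := upto_add uN_124148 rfl cN_124148
theorem uN_125236 : Upto T.chkName 125236 := upto_add uN_124692 rfl cN_124692
theorem uN_125780 : Upto T.chkName 125780 := upto_add uN_125236 rfl cN_125236
theorem uN_126324 : Upto T.chkName 126324 := upto_add uN_125780 rfl cN_125780
theorem uN_126877 : Upto T.chkName 126877 := upto_add uN_126324 rfl cN_126324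
theorem uN_127431 : Upto T.chkName 127431 := upto_add uN_126877 rfl cN_126877
theorem uN_127982 : Upto T.chkName 127982 := upto_add uN_127431 rfl cN_127431
theorem uN_128535 : Upto T.chkName 128535 := upto_add uN_127982 rfl cN_127982
theorem uN_129085 : Upto T.chkName 129085 := upto_add uN_128535 rfl cN_128535
theorem uN_129633 : Upto T.chkName 129633 := upto_add uN_129085 rfl cN_129085
theorem uN_130176 : Upto T.chkName 130176 := upto_add uN_129633 rfl cN_129633
theorem uN_130724 : Upto T.chkName 130724 := upto_add uN_130176 rfl cN_130176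
theorem uN_131291 : Upto T.chkName 131291 := upto_add uN_130724 rfl cN_130724
theorem uN_131856 : Upto T.chkName 131856 := upto_add uN_131291 rfl cN_131291
theorem uN_132420 : Upto T.chkName 132420 := upto_add uN_131856 rfl cN_131856
theorem uN_132987 : Upto T.chkName 132987 := upto_add uN_132420 rfl cN_132420
theorem uN_133563 : Upto T.chkName 133563 := upto_add uN_132987 rfl cN_132987
theorem uN_134140 : Upto T.chkName 134140 := upto_add uN_133563 rfl cN_133563
theorem uN_134716 : Upto T.chkName 134716 := upto_add uN_134140 rfl cN_134140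
theorem uN_135292 : Upto T.chkName 135292 := upto_add uN_134716 rfl cN_134716
theorem uN_135866 : Upto T.chkName 135866 := upto_add uN_135292 rfl cN_135292
theorem uN_135924 : Upto T.chkName 135924 := upto_add uN_135866 rfl cN_135866
theorem uV_412 : Upto T.chkV 412 := upto_add (upto_zero T.chkV) rfl cV_0
theorem uV_824 : Upto T.chkV 824 := upto_add uV_412 rfl cV_412
theorem uV_1236 : Upto T.chkV 1236 := upto_add uV_824 rfl cV_824
theorem uV_1648 : Upto T.chkV 1648 := upto_add uV_1236 rfl cV_1236
theorem uV_2060 : Upto T.chkV 2060 := upto_add uV_1648 rfl cV_1648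
theorem uV_2472 : Upto T.chkV 2472 := upto_add uV_2060 rfl cV_2060
theorem uV_2884 : Upto T.chkV 2884 := upto_add uV_2472 rfl cV_2472
theorem uV_3296 : Upto T.chkV 3296 := upto_add uV_2884 rfl cV_2884
theorem uV_3708 : Upto T.chkV 3708 := upto_add uV_3296 rfl cV_3296
theorem uV_4120 : Upto T.chkV 4120 := upto_add uV_3708 rfl cV_3708
theorem uV_4532 : Upto T.chkV 4532 := upto_add uV_4120 rfl cV_4120
theorem uV_4944 : Upto T.chkV 4944 := upto_add uV_4532 rfl cV_4532
theorem uV_5356 : Upto T.chkV 5356 := upto_add uV_4944 rfl cV_4944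
theorem uV_5768 : Upto T.chkV 5768 := upto_add uV_5356 rfl cV_5356
theorem uV_6180 : Upto T.chkV 6180 := upto_add uV_5768 rfl cV_5768
theorem uV_6592 : Upto T.chkV 6592 := upto_add uV_6180 rfl cV_6180
theorem uV_7004 : Upto T.chkV 7004 := upto_add uV_6592 rfl cV_6592
theorem uV_7416 : Upto T.chkV 7416 := upto_add uV_7004 rfl cV_7004
theorem uV_7828 : Upto T.chkV 7828 := upto_add uV_7416 rfl cV_7416
theorem uV_8240 : Upto T.chkV 8240 := upto_add uV_7828 rfl cV_7828
theorem uV_8652 : Upto T.chkV 8652 := upto_add uV_8240 rfl cV_8240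
theorem uV_9064 : Upto T.chkV 9064 := upto_add uV_8652 rfl cV_8652
theorem uV_9476 : Upto T.chkV 9476 := upto_add uV_9064 rfl cV_9064
theorem uV_9888 : Upto T.chkV 9888 := upto_add uV_9476 rfl cV_9476
theorem uV_10300 : Upto T.chkV 10300 := upto_add uV_9888 rfl cV_9888
theorem uV_10712 : Upto T.chkV 10712 := upto_add uV_10300 rfl cV_10300
theorem uV_11124 : Upto T.chkV 11124 := upto_add uV_10712 rfl cV_10712
theorem uV_11536 : Upto T.chkV 11536 := upto_add uV_11124 rfl cV_11124
theorem uV_11948 : Upto T.chkV 11948 := upto_add uV_11536 rfl cV_11536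
theorem uV_12360 : Upto T.chkV 12360 := upto_add uV_11948 rfl cV_11948
theorem uV_12772 : Upto T.chkV 12772 := upto_add uV_12360 rfl cV_12360
theorem uV_13184 : Upto T.chkV 13184 := upto_add uV_12772 rfl cV_12772
theorem uV_13596 : Upto T.chkV 13596 := upto_add uV_13184 rfl cV_13184
theorem uV_14008 : Upto T.chkV 14008 := upto_add uV_13596 rfl cV_13596
theorem uV_14420 : Upto T.chkV 14420 := upto_add uV_14008 rfl cV_14008
theorem uV_14832 : Upto T.chkV 14832 := upto_add uV_14420 rfl cV_14420
theorem uV_15244 : Upto T.chkV 15244 := upto_add uV_14832 rfl cV_14832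
theorem uV_15656 : Upto T.chkV 15656 := upto_add uV_15244 rfl cV_15244
theorem uV_16068 : Upto T.chkV 16068 := upto_add uV_15656 rfl cV_15656
theorem uV_16480 : Upto T.chkV 16480 := upto_add uV_16068 rfl cV_16068
theorem uV_16892 : Upto T.chkV 16892 := upto_add uV_16480 rfl cV_16480
theorem uV_17304 : Upto T.chkV 17304 := upto_add uV_16892 rfl cV_16892
theorem uV_17716 : Upto T.chkV 17716 := upto_add uV_17304 rfl cV_17304
theorem uV_18128 : Upto T.chkV 18128 := upto_add uV_17716 rfl cV_17716
theorem uV_18540 : Upto T.chkV 18540 := upto_add uV_18128 rfl cV_18128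
theorem uV_18952 : Upto T.chkV 18952 := upto_add uV_18540 rfl cV_18540
theorem uV_19364 : Upto T.chkV 19364 := upto_add uV_18952 rfl cV_18952
theorem uV_19776 : Upto T.chkV 19776 := upto_add uV_19364 rfl cV_19364
theorem uV_20188 : Upto T.chkV 20188 := upto_add uV_19776 rfl cV_19776
theorem uV_20600 : Upto T.chkV 20600 := upto_add uV_20188 rfl cV_20188
theorem uV_21012 : Upto T.chkV 21012 := upto_add uV_20600 rfl cV_20600
theorem uV_21424 : Upto T.chkV 21424 := upto_add uV_21012 rfl cV_21012
theorem uV_21836 : Upto T.chkV 21836 := upto_add uV_21424 rfl cV_21424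
theorem uV_22248 : Upto T.chkV 22248 := upto_add uV_21836 rfl cV_21836
theorem uV_22660 : Upto T.chkV 22660 := upto_add uV_22248 rfl cV_22248
theorem uV_23072 : Upto T.chkV 23072 := upto_add uV_22660 rfl cV_22660
theorem uV_23484 : Upto T.chkV 23484 := upto_add uV_23072 rfl cV_23072
theorem uV_23896 : Upto T.chkV 23896 := upto_add uV_23484 rfl cV_23484
theorem uV_24308 : Upto T.chkV 24308 := upto_add uV_23896 rfl cV_23896
theorem uV_24720 : Upto T.chkV 24720 := upto_add uV_24308 rfl cV_24308
theorem uV_25132 : Upto T.chkV 25132 := upto_add uV_24720 rfl cV_24720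
theorem uV_25544 : Upto T.chkV 25544 := upto_add uV_25132 rfl cV_25132
theorem uV_25956 : Upto T.chkV 25956 := upto_add uV_25544 rfl cV_25544
theorem uV_26368 : Upto T.chkV 26368 := upto_add uV_25956 rfl cV_25956
theorem uV_26780 : Upto T.chkV 26780 := upto_add uV_26368 rfl cV_26368
theorem uV_27192 : Upto T.chkV 27192 := upto_add uV_26780 rfl cV_26780
theorem uV_27604 : Upto T.chkV 27604 := upto_add uV_27192 rfl cV_27192
theorem uV_28016 : Upto T.chkV 28016 := upto_add uV_27604 rfl cV_27604
theorem uV_28428 : Upto T.chkV 28428 := upto_add uV_28016 rfl cV_28016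
theorem uV_28840 : Upto T.chkV 28840 := upto_add uV_28428 rfl cV_28428
theorem uV_29252 : Upto T.chkV 29252 := upto_add uV_28840 rfl cV_28840
theorem uV_29664 : Upto T.chkV 29664 := upto_add uV_29252 rfl cV_29252
theorem uV_30076 : Upto T.chkV 30076 := upto_add uV_29664 rfl cV_29664
theorem uV_30488 : Upto T.chkV 30488 := upto_add uV_30076 rfl cV_30076
theorem uV_30900 : Upto T.chkV 30900 := upto_add uV_30488 rfl cV_30488
theorem uV_31312 : Upto T.chkV 31312 := upto_add uV_30900 rfl cV_30900
theorem uV_31671 : Upto T.chkV 31671 := upto_add uV_31312 rfl cV_31312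

/-- The certificate is valid. -/
theorem cert : T.Cert where
  h0 := by decide +kernel
  hrx := by decide +kernel
  hs0 := by decide +kernel
  hname := uN_135924
  hV := uV_31671

theorem orep_0 : T.orep 0 < T.N ∧ T.ol (T.orep 0) = 0 := by decide +kernel
theorem cnt_0 : countLt (fun v => Nat.beq (T.ol v) 0) T.N = 1 := by decide +kernel
theorem orep_1 : T.orep 1 < T.N ∧ T.ol (T.orep 1) = 1 := by decide +kernel
theorem cnt_1 : countLt (fun v => Nat.beq (T.ol v) 1) T.N = 28160 := by decide +kernel
theorem orep_2 : T.orep 2 < T.N ∧ T.ol (T.orep 2) = 2 := by decide +kernel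
theorem cnt_2 : countLt (fun v => Nat.beq (T.ol v) 2) T.N = 3510 := by decide +kernel

end Cfsg.Agent.Lib.Helper56.Fi24V10
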